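import Cfsg.Agent.CosetCert.ONChain1.Defs

/-! Generated: kernel checks. -/

set_option Elab.async false

namespace Cfsg.Agent.CosetCert.ONChain1

theorem coset_okAt0 : allFrom data.checkCoset 0 1000 = true := by decide +kernel

theorem coset_okAt1000 : allFrom data.checkCoset 1000 1000 = true := by decide +kernel

theorem coset_okAt2000 : allFrom data.checkCoset 2000 1000 = true := by decide +kernel

theorem coset_okAt3000 : allFrom data.checkCoset 3000 1000 = true := by decide +kernel

theorem coset_okAt4000 : allFrom data.checkCoset 4000 1000 = true := by decide +kernel

theorem coset_okAt5000 : allFrom data.checkCoset 5000 586 = true := by decide +kernel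

end Cfsg.Agent.CosetCert.ONChain1
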